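import Cfsg.Agent.Screen.CosetEnum.SuzU43.RCheck3

/-!
# Checking the table
-/

set_option autoImplicit false
set_option maxRecDepth 20000

namespace Cfsg.Agent.Screen.CosetEnum.SuzU43

open Cfsg.Agent.Screen.CosetEnum

set_option Elab.async false

theorem rcheck120 : tbl.rows 150 18000 = true := by decide +kernel

theorem rcheck121 : tbl.rows 150 18150 = true := by decide +kernel

theorem rcheck122 : tbl.rows 150 18300 = true := by decide +kernel

theorem rcheck123 : tbl.rows 150 18450 = true := by decide +kernel

theorem rcheck124 : tbl.rows 150 18600 = true := by decide +kernel

theorem rcheck125 : tbl.rows 150 18750 = true := by decide +kernel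

theorem rcheck126 : tbl.rows 150 18900 = true := by decide +kernel

theorem rcheck127 : tbl.rows 150 19050 = true := by decide +kernel

theorem rcheck128 : tbl.rows 150 19200 = true := by decide +kernel

theorem rcheck129 : tbl.rows 150 19350 = true := by decide +kernel

theorem rcheck130 : tbl.rows 150 19500 = true := by decide +kernel

theorem rcheck131 : tbl.rows 150 19650 = true := by decide +kernel

theorem rcheck132 : tbl.rows 150 19800 = true := by decide +kernel

theorem rcheck133 : tbl.rows 150 19950 = true := by decide +kernel

theorem rcheck134 : tbl.rows 150 20100 = true := by decide +kernel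

theorem rcheck135 : tbl.rows 150 20250 = true := by decide +kernel

theorem rcheck136 : tbl.rows 150 20400 = true := by decide +kernel

theorem rcheck137 : tbl.rows 150 20550 = true := by decide +kernel

theorem rcheck138 : tbl.rows 150 20700 = true := by decide +kernel

theorem rcheck139 : tbl.rows 150 20850 = true := by decide +kernel

theorem rcheck140 : tbl.rows 150 21000 = true := by decide +kernel

theorem rcheck141 : tbl.rows 150 21150 = true := by decide +kernel

theorem rcheck142 : tbl.rows 150 21300 = true := by decide +kernel

theorem rcheck143 : tbl.rows 150 21450 = true := by decide +kernel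

end Cfsg.Agent.Screen.CosetEnum.SuzU43
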