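import Cfsg.Agent.Screen.CosetEnum.SuzU43.RCheck2

/-!
# Checking the table
-/

set_option autoImplicit false
set_option maxRecDepth 20000

namespace Cfsg.Agent.Screen.CosetEnum.SuzU43

open Cfsg.Agent.Screen.CosetEnum

set_option Elab.async false

theorem rcheck96 : tbl.rows 150 14400 = true := by decide +kernel

theorem rcheck97 : tbl.rows 150 14550 = true := by decide +kernel

theorem rcheck98 : tbl.rows 150 14700 = true := by decide +kernel

theorem rcheck99 : tbl.rows 150 14850 = true := by decide +kernel

theorem rcheck100 : tbl.rows 150 15000 = true := by decide +kernel

theorem rcheck101 : tbl.rows 150 15150 = true := by decide +kernel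

theorem rcheck102 : tbl.rows 150 15300 = true := by decide +kernel

theorem rcheck103 : tbl.rows 150 15450 = true := by decide +kernel

theorem rcheck104 : tbl.rows 150 15600 = true := by decide +kernel

theorem rcheck105 : tbl.rows 150 15750 = true := by decide +kernel

theorem rcheck106 : tbl.rows 150 15900 = true := by decide +kernel

theorem rcheck107 : tbl.rows 150 16050 = true := by decide +kernel

theorem rcheck108 : tbl.rows 150 16200 = true := by decide +kernel

theorem rcheck109 : tbl.rows 150 16350 = true := by decide +kernel

theorem rcheck110 : tbl.rows 150 16500 = true := by decide +kernel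

theorem rcheck111 : tbl.rows 150 16650 = true := by decide +kernel

theorem rcheck112 : tbl.rows 150 16800 = true := by decide +kernel

theorem rcheck113 : tbl.rows 150 16950 = true := by decide +kernel

theorem rcheck114 : tbl.rows 150 17100 = true := by decide +kernel

theorem rcheck115 : tbl.rows 150 17250 = true := by decide +kernel

theorem rcheck116 : tbl.rows 150 17400 = true := by decide +kernel

theorem rcheck117 : tbl.rows 150 17550 = true := by decide +kernel

theorem rcheck118 : tbl.rows 150 17700 = true := by decide +kernel

theorem rcheck119 : tbl.rows 150 17850 = true := by decide +kernel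

end Cfsg.Agent.Screen.CosetEnum.SuzU43
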